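import Mathlib
import Cfsg.Agent.Lib.Helper51.TIH.Defs
import Cfsg.Agent.S0690

/-!
# Project TIH (S4118): package [SOLVH]
-/

set_option autoImplicit false

namespace Cfsg.Agent.Lib.Helper38.TIH

open Cfsg.Agent.Lib.Helper51.TIH

universe u

/-- the derived series of a finite group becomes stationary -/
theorem derived_stationary (H : Type u) [Group H] [Finite H] :
    ∃ n, derivedSeries H (n + 1) = derivedSeries H n := by
  by_contra hcon
  push Not at hcon
  have hlt : ∀ n, derivedSeries H (n + 1) < derivedSeries H n := by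
    intro n
    refine lt_of_le_of_ne ?_ (hcon n)
    exact (derivedSeries_antitone H) (Nat.le_succ n)
  have hcard : ∀ n, Nat.card (derivedSeries H n) + n ≤ Nat.card H := by
    intro n
    induction n with
    | zero =>
      exact Subgroup.card_le_card_group _
    | succ n ih =>
      have h1 : Nat.card (derivedSeries H (n + 1)) < Nat.card (derivedSeries H n) :=
        Set.Finite.card_lt_card (Set.toFinite _) (SetLike.coe_ssubset_coe.2 (hlt n))
      omega
  have := hcard (Nat.card H + 1)
  omega

theorem perfect_of_comm_eq {G : Type u} [Group G] (S : Subgroup G) (h : ⁅S, S⁆ = S) :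
    commutator ↥S = ⊤ := by
  apply Subgroup.map_injective S.subtype_injective
  rw [Subgroup.map_subtype_commutator, h, ← MonoidHom.range_eq_map, Subgroup.range_subtype]

theorem pkgSolvH : PkgSolvH.{u} := by
  intro H _ _ hfpf hno
  obtain ⟨K, hK, hKfin, ρ, hnt, hρ⟩ := hfpf
  have hinj : Function.Injective ρ := by
    rw [injective_iff_map_eq_one]
    intro h hh
    by_contra h1
    obtain ⟨k, hk⟩ := exists_ne (1 : K)
    apply hk
    apply hρ h h1 k
    rw [hh]
    rfl
  obtain ⟨n, hn⟩ := derived_stationary H
  by_cases hR : derivedSeries H n = ⊥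
  · exact (Group.isSolvable_def H).2 ⟨n, hR⟩
  · exfalso
    have hperf : ⁅derivedSeries H n, derivedSeries H n⁆ = derivedSeries H n := by
      nth_rewrite 3 [← hn]
      rfl
    have h1 : ∀ φ ∈ (derivedSeries H n).map ρ, φ ≠ 1 → ∀ k : K, φ k = k → k = 1 := by
      rintro _ ⟨h, -, rfl⟩ hne k hk
      apply hρ h _ k hk
      intro h1
      apply hne
      rw [h1, map_one]
    have h2 : commutator ↥((derivedSeries H n).map ρ) = ⊤ := by
      apply perfect_of_comm_eq
      rw [← Subgroup.map_commutator, hperf]
    have h3 : (derivedSeries H n).map ρ ≠ ⊥ := by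
      intro h
      apply hR
      exact (Subgroup.map_eq_bot_iff_of_injective _ hinj).1 h
    obtain ⟨e⟩ := Cfsg.Agent.S0690.result ((derivedSeries H n).map ρ) h1 h2 h3
    exact hno (derivedSeries H n) ⟨((derivedSeries H n).equivMapOfInjective ρ hinj).trans e⟩

end Cfsg.Agent.Lib.Helper38.TIH
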